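import Cfsg.Agent.Lib.helper3.G23TC.B.Fin0

/-! the final table (generated, helper3) -/

set_option autoImplicit false
set_option maxRecDepth 100000
set_option linter.unusedSimpArgs false
set_option Elab.async false

namespace Cfsg.Agent.Lib.Helper3.G23TC.B

open Cfsg.Agent.Lib.Helper12.TC Cfsg.Agent.Lib.Helper12.TCG Cfsg.Agent.Lib.Helper3.TCUpper

theorem hdefs_0 : defsPartK F 0 3352 = true := by decide +kernel

theorem hdefs : defsK F cD = true :=
  defsK_of_OK (defsOK_step hdefs_0 rfl
    (defsOK_start F))

theorem beq_chain {x A B : ℕ} (h1 : Nat.beq x A = true) (h2 : Nat.beq A B = true) :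
    Nat.beq x B = true := by
  rw [Nat.eq_of_beq_eq_true h1]
  exact h2

theorem hlive' : Nat.beq (liveK (fr0)) (LIVE0) = true :=
  hlive_0

theorem hliveq : Nat.beq (LIVE0) LIVE = true := by decide +kernel

theorem hlive : Nat.beq (liveK finrecs) LIVE = true := by
  unfold finrecs
  exact beq_chain hlive' hliveq

theorem hlive0 : bitK LIVE 0 = true := by decide +kernel

theorem hfin : finG cIV F cK 8 finrecs = true :=
  finG_of_parts hlive hlive0 hfin_0

theorem hlen : finrecs.length = cN := by
  simp only [finrecs, List.length_append]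
  decide +kernel

end Cfsg.Agent.Lib.Helper3.G23TC.B
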