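import Cfsg.Agent.Lib.helper3.G23TC.B.Chk0
import Cfsg.Agent.Lib.helper3.G23TC.B.Chk1
import Cfsg.Agent.Lib.helper3.G23TC.B.Fin

/-! the chunks of the certificate (generated, helper3) -/

set_option autoImplicit false
set_option maxRecDepth 100000
set_option linter.unusedSimpArgs false

namespace Cfsg.Agent.Lib.Helper3.G23TC.B

open Cfsg.Agent.Lib.Helper12.TC Cfsg.Agent.Lib.Helper12.TCG Cfsg.Agent.Lib.Helper3.TCUpper

/-- the chunks of the certificate -/
noncomputable def chunks : List Chunk :=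
  [⟨3352, rw0, 253, 255, rot0, recs0⟩,
   ⟨4923, rw1, 253, 255, rot1, recs1⟩,
   ⟨7720, rw2, 253, 255, rot2, recs2⟩,
   ⟨8412, rw3, 156, 158, rot3, recs3⟩]

theorem hcover : coverK cD cK (chunks.map fun c => (c.start, c.recs)) = true := by
  unfold chunks
  simp only [List.map_cons, List.map_nil]
  decide +kernel

theorem hchunks : ∀ c ∈ chunks, relCheckK c.RW c.R0 c.R baseL c.rotW sw = true ∧
    chunkG cIV F c.RW c.R0 c.recs c.start = true := by
  unfold chunks
  simp only [List.forall_mem_cons, List.not_mem_nil, false_imp_iff, implies_true, and_true]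
  exact ⟨⟨hrel0, hchk0⟩, ⟨hrel1, hchk1⟩, ⟨hrel2, hchk2⟩, ⟨hrel3, hchk3⟩⟩

end Cfsg.Agent.Lib.Helper3.G23TC.B
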